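import Cfsg.Agent.Lib.Helper11.Y532a.D0
import Cfsg.Agent.Lib.Helper11.Words

set_option autoImplicit false
set_option maxRecDepth 100000

namespace Cfsg.Agent.Lib.Helper11.Y532a

noncomputable def fc1_0 (i : ℕ) : ℕ := (Bool.rec (Bool.rec (fc0_0 i) (fc0_1 i) (Nat.ble 16 i)) (Bool.rec (fc0_2 i) (fc0_3 i) (Nat.ble 48 i)) (Nat.ble 32 i))
noncomputable def fc (i : ℕ) : ℕ := fc1_0 i
noncomputable def sc1_0 (i : ℕ) : ℕ := (Bool.rec (Bool.rec (sc0_0 i) (sc0_1 i) (Nat.ble 16 i)) (Bool.rec (sc0_2 i) (sc0_3 i) (Nat.ble 48 i)) (Nat.ble 32 i))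
noncomputable def sc (i : ℕ) : ℕ := sc1_0 i
noncomputable def nc (i : ℕ) : ℕ := nc0_0 i
noncomputable def cc (i : ℕ) : ℕ := cc0_0 i

noncomputable def INV : ℕ := 407901468851537952
def isH (l : ℕ) : Bool := decide (l ∈ [1, 2, 3, 4, 5, 7, 8, 9, 10, 11])
def gens : List ℕ := [1, 2, 3, 4, 5, 6, 7, 8, 9, 10, 11]
def rt : RT := (.node 27 (.node 11 (.node 5 (.node 2 (.node 1 (.leaf 0 0 []) (.leaf 87 0 [7, 10, 7, 10])) (.node 4 (.node 3 (.leaf 7 0 [7, 7]) (.leaf 32 0 [2, 10, 2, 10])) (.leaf 14 1 [3, 1, 3, 1]))) (.node 8 (.node 7 (.node 6 (.leaf 43 0 [3, 10, 3, 10]) (.leaf 1 0 [1, 1])) (.leaf 15 1 [4, 1, 4, 1])) (.node 10 (.node 9 (.leaf 22 0 [1, 11, 1, 11]) (.leaf 33 0 [2, 11, 2, 11])) (.leaf 54 0 [4, 10, 4, 10])))) (.node 19 (.node 15 (.node 13 (.node 12 (.leaf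 2 0 [2, 2]) (.leaf 29 0 [2, 7, 2, 7])) (.node 14 (.leaf 40 0 [3, 7, 3, 7]) (.leaf 88 0 [7, 11, 7, 11]))) (.node 17 (.node 16 (.leaf 51 0 [4, 7, 4, 7]) (.leaf 44 0 [3, 11, 3, 11])) (.node 18 (.leaf 3 0 [3, 3]) (.leaf 10 0 [10, 10])))) (.node 23 (.node 21 (.node 20 (.leaf 98 0 [8, 10, 8, 10]) (.leaf 19 0 [1, 8, 1, 8])) (.node 22 (.leaf 20 1 [9, 1, 9, 1]) (.leaf 16 1 [5, 1, 5, 1]))) (.node 25 (.node 24 (.leaf 4 0 [4, 4]) (.leaf 19 1 [8, 1, 8, 1])) (.node 26 (.leaf 55 0 [4, 11, 4, 11]) (.leaf 21 0 [1, 10, 1, 10, 1, 10])))))) (.node 52 (.node 38 (.node 33 (.node 30 (.node 29 (.node 28 (.leaf 26 1 [4, 2, 4, 2]) (.leaf 8 0 [8, 8])) (.leaf 109 0 [9, 10, 9, 10])) (.node 32 (.node 31 (.leaf 65 0 [5, 10, 5, 10]) (.leaf 21 1 [10, 1, 10, 1, 10, 1])) (.leaf 9 0 [9, 9])))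 (.node 36 (.node 35 (.node 34 (.leaf 13 0 [1, 2, 1, 2, 1, 2]) (.leaf 18 0 [1, 7, 1, 7, 1, 7])) (.leaf 87 1 [10, 7, 10, 7])) (.node 37 (.leaf 18 1 [7, 1, 7, 1, 7, 1]) (.leaf 17 1 [6, 1, 6, 1])))) (.node 45 (.node 42 (.node 40 (.node 39 (.leaf 99 0 [8, 11, 8, 11]) (.leaf 62 0 [5, 7, 5, 7])) (.node 41 (.leaf 31 1 [9, 2, 9, 2]) (.leaf 22 1 [11, 1, 11, 1]))) (.node 44 (.node 43 (.leaf 30 0 [2, 8, 2, 8]) (.leaf 76 0 [6, 10, 6, 10])) (.leaf 27 1 [5, 2, 5, 2]))) (.node 49 (.node 47 (.node 46 (.leaf 86 1 [9, 7, 9, 7]) (.leaf 41 0 [3, 8, 3, 8])) (.node 48 (.leaf 52 0 [4, 8, 4, 8]) (.leaf 30 1 [8, 2, 8, 2]))) (.node 51 (.node 50 (.leaf 86 0 [7, 9, 7, 9]) (.leaf 66 0 [5, 11, 5, 11])) (.leaf 110 0 [9, 11, 9, 11]))))) (.node 71 (.node 61 (.node 57 (.node 55 (.node 54 (.node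 53 (.leaf 13 1 [2, 1, 2, 1, 2, 1]) (.leaf 88 1 [11, 7, 11, 7])) (.leaf 25 0 [2, 3, 2, 3, 2, 3])) (.node 56 (.leaf 32 1 [10, 2, 10, 2]) (.leaf 20 0 [1, 9, 1, 9]))) (.node 59 (.node 58 (.leaf 121 1 [11, 10, 11, 10, 11, 10]) (.leaf 98 1 [10, 8, 10, 8])) (.node 60 (.leaf 28 1 [6, 2, 6, 2]) (.leaf 5 0 [5, 5])))) (.node 66 (.node 64 (.node 63 (.node 62 (.leaf 42 1 [9, 3, 9, 3]) (.leaf 29 1 [7, 2, 7, 2])) (.leaf 14 0 [1, 3, 1, 3])) (.node 65 (.leaf 11 0 [11, 11]) (.leaf 31 0 [2, 9, 2, 9]))) (.node 69 (.node 68 (.node 67 (.leaf 77 0 [6, 11, 6, 11]) (.leaf 41 1 [8, 3, 8, 3])) (.leaf 73 0 [6, 7, 6, 7])) (.node 70 (.leaf 43 1 [10, 3, 10, 3]) (.leaf 63 0 [5, 8, 5, 8]))))) (.node 85 (.node 78 (.node 75 (.node 73 (.node 72 (.leaf 53 0 [4, 9, 4, 9]) (.leaf 26 0 [2, 4, 2,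 4])) (.node 74 (.leaf 38 1 [5, 3, 5, 3]) (.leaf 33 1 [11, 2, 11, 2]))) (.node 77 (.node 76 (.leaf 121 0 [10, 11, 10, 11, 10, 11]) (.leaf 37 0 [3, 4, 3, 4, 3, 4])) (.leaf 6 0 [6, 6]))) (.node 82 (.node 80 (.node 79 (.leaf 42 0 [3, 9, 3, 9]) (.leaf 99 1 [11, 8, 11, 8])) (.node 81 (.leaf 39 1 [6, 3, 6, 3]) (.leaf 25 1 [3, 2, 3, 2, 3, 2]))) (.node 84 (.node 83 (.leaf 85 1 [8, 7, 8, 7, 8, 7]) (.leaf 53 1 [9, 4, 9, 4])) (.leaf 40 1 [7, 3, 7, 3])))) (.node 96 (.node 90 (.node 88 (.node 87 (.node 86 (.leaf 54 1 [10, 4, 10, 4]) (.leaf 85 0 [7, 8, 7, 8, 7, 8])) (.leaf 64 0 [5, 9, 5, 9])) (.node 89 (.leaf 15 0 [1, 4, 1, 4]) (.leaf 52 1 [8, 4, 8, 4]))) (.node 93 (.node 92 (.node 91 (.leaf 109 1 [10, 9, 10, 9]) (.leaf 37 1 [4, 3, 4, 3, 4, 3])) (.leaf 74 0 [6, 8, 6, 8]))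 (.node 95 (.node 94 (.leaf 97 0 [8, 9, 8, 9, 8, 9]) (.leaf 44 1 [11, 3, 11, 3])) (.leaf 51 1 [7, 4, 7, 4])))) (.node 106 (.node 101 (.node 99 (.node 98 (.node 97 (.leaf 38 0 [3, 5, 3, 5]) (.leaf 50 1 [6, 4, 6, 4])) (.leaf 110 1 [11, 9, 11, 9])) (.node 100 (.leaf 55 1 [11, 4, 11, 4]) (.leaf 75 0 [6, 9, 6, 9]))) (.node 104 (.node 103 (.node 102 (.leaf 65 1 [10, 5, 10, 5]) (.leaf 49 1 [5, 4, 5, 4, 5, 4])) (.leaf 49 0 [4, 5, 4, 5, 4, 5])) (.node 105 (.leaf 16 0 [1, 5, 1, 5]) (.leaf 64 1 [9, 5, 9, 5])))) (.node 114 (.node 110 (.node 108 (.node 107 (.leaf 50 0 [4, 6, 4, 6]) (.leaf 76 1 [10, 6, 10, 6])) (.node 109 (.leaf 27 0 [2, 5, 2, 5]) (.leaf 62 1 [7, 5, 7, 5]))) (.node 112 (.node 111 (.leaf 97 1 [9, 8, 9, 8, 9, 8]) (.leaf 17 0 [1, 6, 1, 6])) (.node 113 (.leaf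 39 0 [3, 6, 3, 6]) (.leaf 75 1 [9, 6, 9, 6])))) (.node 119 (.node 117 (.node 116 (.node 115 (.leaf 63 1 [8, 5, 8, 5]) (.leaf 61 1 [6, 5, 6, 5, 6, 5])) (.leaf 28 0 [2, 6, 2, 6])) (.node 118 (.leaf 73 1 [7, 6, 7, 6]) (.leaf 74 1 [8, 6, 8, 6]))) (.node 122 (.node 121 (.node 120 (.leaf 66 1 [11, 5, 11, 5]) (.leaf 77 1 [11, 6, 11, 6])) (.leaf 61 0 [5, 6, 5, 6, 5, 6])) (.node 124 (.node 123 (.leaf 133 0 [1, 2, 3, 1, 7, 8, 1, 10, 11, 1, 2, 3, 1, 7, 8, 1, 10, 11, 1, 2, 3, 1, 7, 8, 1, 10, 11, 1, 2, 3, 1, 7, 8, 1, 10, 11, 1, 2, 3, 1, 7, 8, 1, 10, 11, 1, 2, 3, 1, 7, 8, 1, 10, 11, 1, 2, 3, 1, 7, 8, 1, 10, 11, 1, 2, 3, 1, 7, 8, 1, 10, 11, 1, 2, 3, 1, 7, 8, 1, 10, 11, 1, 2, 3, 1, 7, 8, 1, 10, 11]) (.leaf 133 2 [3, 1, 7, 8, 1, 10, 11, 1, 2, 3, 1, 7, 8, 1, 10, 11, 1, 2, 3,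 1, 7, 8, 1, 10, 11, 1, 2, 3, 1, 7, 8, 1, 10, 11, 1, 2, 3, 1, 7, 8, 1, 10, 11, 1, 2, 3, 1, 7, 8, 1, 10, 11, 1, 2, 3, 1, 7, 8, 1, 10, 11, 1, 2, 3, 1, 7, 8, 1, 10, 11, 1, 2, 3, 1, 7, 8, 1, 10, 11, 1, 2, 3, 1, 7, 8, 1, 10, 11, 1, 2])) (.leaf 133 4 [7, 8, 1, 10, 11, 1, 2, 3, 1, 7, 8, 1, 10, 11, 1, 2, 3, 1, 7, 8, 1, 10, 11, 1, 2, 3, 1, 7, 8, 1, 10, 11, 1, 2, 3, 1, 7, 8, 1, 10, 11, 1, 2, 3, 1, 7, 8, 1, 10, 11, 1, 2, 3, 1, 7, 8, 1, 10, 11, 1, 2, 3, 1, 7, 8, 1, 10, 11, 1, 2, 3, 1, 7, 8, 1, 10, 11, 1, 2, 3, 1, 7, 8, 1, 10, 11, 1, 2, 3, 1])))))))))))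


end Cfsg.Agent.Lib.Helper11.Y532a
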